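import Cfsg.Agent.Lib.InvCoset.Index

/-!
# Upper bounds on orders from tables, lower bounds from orbits
-/

set_option autoImplicit false
set_option linter.all false

noncomputable section

namespace Cfsg.Agent.InvCoset

/-- A finite subgroup of order at most `B`. -/
def Small {G : Type*} [Group G] (H : Subgroup G) (B : ℕ) : Prop := Finite H ∧ Nat.card H ≤ B

theorem small_bot {G : Type*} [Group G] : Small (⊥ : Subgroup G) 1 :=
  ⟨inferInstance, by rw [Subgroup.card_bot]⟩

theorem Small.congr {G : Type*} [Group G] {H H' : Subgroup G} {B : ℕ} (h : Small H B) (e : H = H') : Small H' B :=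
  e ▸ h

/-- The letters of a list span a subgroup. -/
def spanL {G : Type*} [Group G] (e : ℕ → G) (l : List ℕ) : Subgroup G := Subgroup.closure (e '' {x | x ∈ l})

theorem mem_spanL {G : Type*} [Group G] (e : ℕ → G) {l : List ℕ} {x : ℕ} (h : x ∈ l) : e x ∈ spanL e l :=
  Subgroup.subset_closure ⟨x, h, rfl⟩

theorem spanL_mono {G : Type*} [Group G] (e : ℕ → G) {l l' : List ℕ} (h : ∀ x ∈ l, x ∈ l') :
    spanL e l ≤ spanL e l' :=
  Subgroup.closure_mono (Set.image_mono h)

theorem spanL_nil {G : Type*} [Group G] (e : ℕ → G) : spanL e [] = ⊥ := by simp [spanL]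

/-- A table bounds the index in a subgroup spanned by its letters. -/
theorem Small.step {D : Tab} {seeds : List (ℕ × ℕ × List ℕ)} {W : List (List ℕ)} (hD : D.Certified seeds W)
    {G : Type*} [Group G] (e : ℕ → G) (hp : Paired D.K D.iv e) (hW : ∀ w ∈ W, prodE e w = 1)
    {sub : Subgroup G} {B : ℕ} (hB : Small sub B)
    (hle : sub ≤ spanL e (List.range D.K)) (hseed : ∀ s ∈ seeds, prodE e s.2.2 ∈ sub) :
    Small (spanL e (List.range D.K)) (D.n * B) := by
  set top := spanL e (List.range D.K)
  have hmem : ∀ x < D.K, e x ∈ top := fun x hx => mem_spanL e (List.mem_range.mpr hx)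
  let e' : ℕ → top := fun x => if hx : x < D.K then ⟨e x, hmem x hx⟩ else 1
  have hee : ∀ x < D.K, (e' x : G) = e x := fun x hx => by simp [e', hx]
  have hp' : Paired D.K D.iv e' := ⟨hp.lt, fun x hx => Subtype.ext (by
    rw [hee _ (hp.lt x hx), hp.inv x hx, Subgroup.coe_inv, hee x hx])⟩
  have hval : ∀ w : List ℕ, (∀ y ∈ w, y < D.K) → ((prodE e' w : top) : G) = prodE e w := by
    intro w
    induction w with
    | nil => intro _; rfl
    | cons y w ih =>
      intro hy
      rw [prodE, prodE, Subgroup.coe_mul, ih (fun z hz => hy z (List.mem_cons_of_mem _ hz)),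
        hee y (hy y List.mem_cons_self)]
  have hW' : ∀ w ∈ W, prodE e' w = 1 := fun w hw => Subtype.ext ((hval w (hD.words w hw)).trans (hW w hw))
  have hseedK : ∀ s ∈ seeds, ∀ y ∈ s.2.2, s.2.1 < D.K → y < D.K := by
    intro s hs y hy hx
    obtain ⟨hc, hw⟩ := seedsChk_spec hD.seedWords s hs
    rw [hw, Tab.seedWord, List.mem_append, List.mem_cons] at hy
    rcases hy with hy | rfl | hy
    · exact pathTo_range hD _ _ hc le_rfl y hy
    · exact hx
    · simp only [invW, List.mem_reverse, List.mem_map] at hy
      obtain ⟨z, hz, rfl⟩ := hy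
      exact (ivChk_spec _ hD.inverse z (pathTo_range hD _ _ (cellFacts hD hc hx).1 le_rfl z hz)).1
  have hS : ∀ s ∈ seeds.filter (fun s => Nat.blt s.2.1 D.K),
      actW e' s.2.2 (QuotientGroup.mk 1 : top ⧸ sub.subgroupOf top) = QuotientGroup.mk 1 := by
    intro s hs
    rw [List.mem_filter] at hs
    have hx : s.2.1 < D.K := by simpa [Nat.blt] using hs.2
    rw [actW_eq, MulAction.Quotient.smul_mk, smul_eq_mul, mul_one, QuotientGroup.eq, mul_one, inv_inv,
      Subgroup.mem_subgroupOf, hval _ (fun y hy => hseedK s hs.1 y hy hx)]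
    exact hseed s hs.1
  have hD' : D.Certified (seeds.filter (fun s => Nat.blt s.2.1 D.K)) W :=
    { pos := hD.pos
      inverse := hD.inverse
      root := hD.root
      words := hD.words
      rots := hD.rots
      seedWords := by
        have h := seedsChk_spec hD.seedWords
        suffices ∀ l : List (ℕ × ℕ × List ℕ), (∀ s ∈ l, s.1 < D.n ∧ s.2.2 = D.seedWord s.1 s.2.1) →
            D.seedsChk l = true from this _ fun s hs => h s (List.mem_of_mem_filter hs)
        intro l
        induction l with
        | nil => intro _; rfl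
        | cons a l ih =>
          intro hl
          obtain ⟨h1, h2⟩ := hl a List.mem_cons_self
          have hb : ∀ w : List ℕ, lbeq w w = true := fun w => by
            induction w with
            | nil => rfl
            | cons y w ihw =>
              show ((Nat.beq y y).and (lbeq w w)) = true
              simp [ihw]
          simp only [Tab.seedsChk, Bool.and_eq_true]
          exact ⟨⟨by simpa [Nat.blt] using h1, h2 ▸ hb _⟩, ih fun s hs => hl s (List.mem_cons_of_mem _ hs)⟩
      rows := by
        intro c hc
        have h := hD.rows c hc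
        simp only [Bool.and_eq_true] at h ⊢
        refine ⟨h.1, ?_⟩
        suffices ∀ K, K ≤ D.K → D.cellsChk seeds c K = true →
            D.cellsChk (seeds.filter (fun s => Nat.blt s.2.1 D.K)) c K = true from this _ le_rfl h.2
        intro K
        induction K with
        | zero => intros; rfl
        | succ x ih =>
          intro hK hx
          simp only [Tab.cellsChk, Bool.and_eq_true] at hx ⊢
          refine ⟨?_, ih (by omega) hx.2⟩
          have h1 := hx.1
          simp only [Tab.cellChk, Bool.and_eq_true] at h1 ⊢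
          refine ⟨h1.1, ?_⟩
          have h2 := h1.2
          unfold Tab.cellJust at h2 ⊢
          split at h2
          · exact h2
          · exact h2
          · obtain ⟨s, hs, rfl, rfl⟩ := seedMem_spec h2
            have hblt : Nat.blt s.2.1 D.K = true := by simp [Nat.blt]; omega
            have hin : s ∈ seeds.filter (fun s => Nat.blt s.2.1 D.K) := List.mem_filter.mpr ⟨hs, hblt⟩
            revert hin
            generalize seeds.filter (fun s => Nat.blt s.2.1 D.K) = l
            intro hin
            induction l with
            | nil => simp at hin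
            | cons a l ihl =>
              simp only [seedMem, Bool.or_eq_true, Bool.and_eq_true]
              rcases List.mem_cons.mp hin with rfl | hin
              · exact Or.inl ⟨by simp, by simp⟩
              · exact Or.inr (ihl hin)
          · exact h2 }
  have hgen : Subgroup.closure (e' '' {x | x < D.K}) = ⊤ := by
    apply Subgroup.map_injective top.subtype_injective
    rw [MonoidHom.map_closure, ← MonoidHom.range_eq_map, Subgroup.range_subtype]
    show _ = spanL e (List.range D.K)
    unfold spanL
    congr 1
    ext p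
    constructor
    · rintro ⟨_, ⟨x, hx, rfl⟩, rfl⟩
      exact ⟨x, List.mem_range.mpr hx, (hee x hx).symm⟩
    · rintro ⟨x, hx, rfl⟩
      exact ⟨e' x, ⟨x, List.mem_range.mp hx, rfl⟩, hee x (List.mem_range.mp hx)⟩
  obtain ⟨ρ, hρ, -⟩ := rows_cover hD' e' (QuotientGroup.mk 1 : top ⧸ sub.subgroupOf top) hp' hW' hS hgen fun p =>
    QuotientGroup.induction_on p fun a => ⟨a, by rw [MulAction.Quotient.smul_mk, smul_eq_mul, mul_one]⟩
  haveI : Finite (top ⧸ sub.subgroupOf top) := Finite.of_surjective ρ hρ
  haveI := hB.1
  haveI : Finite (sub.subgroupOf top) := Finite.of_equiv _ (Subgroup.subgroupOfEquivOfLe hle).symm.toEquiv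
  refine ⟨Finite.of_equiv _ (Subgroup.groupEquivQuotientProdSubgroup (s := sub.subgroupOf top)).symm, ?_⟩
  rw [Subgroup.card_eq_card_quotient_mul_card_subgroup (sub.subgroupOf top),
    Nat.card_congr (Subgroup.subgroupOfEquivOfLe hle).toEquiv]
  refine Nat.mul_le_mul ?_ hB.2
  calc Nat.card (top ⧸ sub.subgroupOf top) ≤ Nat.card (Fin D.n) := Nat.card_le_card_of_surjective ρ hρ
    _ = D.n := Nat.card_fin _

end Cfsg.Agent.InvCoset
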