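import Cfsg.Agent.Lib.InvCoset.Word

/-!
# Short certificates that a word fixes a coset

A certificate is a list of facts `u -x-> v` between named cosets; the letter `K` means that two names are equal.
-/

set_option autoImplicit false
set_option linter.all false

noncomputable section

namespace Cfsg.Agent.InvCoset

def fcU (s : ℕ) : ℕ := Nat.land s 1048575
def fcV (s : ℕ) : ℕ := Nat.land (Nat.shiftRight s 20) 1048575
def fcX (s : ℕ) : ℕ := Nat.land (Nat.shiftRight s 40) 15
def fcKind (s : ℕ) : ℕ := Nat.land (Nat.shiftRight s 44) 15
def fcR (s : ℕ) : ℕ := Nat.land (Nat.shiftRight s 48) 4095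
def fcLen (s : ℕ) : ℕ := Nat.land (Nat.shiftRight s 60) 255
def fcM (s : ℕ) : ℕ := Nat.land (Nat.shiftRight s 68) 1048575
def fcBody (s : ℕ) : ℕ := Nat.shiftRight s 88

def addLetter (K x : ℕ) (w : List ℕ) : List ℕ := cond (Nat.beq x K) w (x :: w)

def backLetter (K iv x : ℕ) : ℕ := cond (Nat.beq x K) K (ivL iv x)

/-- Follow a packed path of signed earlier facts. -/
def follow (K iv : ℕ) (t : NTree) (bound : ℕ) : ℕ → ℕ → ℕ → Option (ℕ × List ℕ)
  | 0, _, cur => some (cur, [])
  | n + 1, body, cur =>
    match Nat.blt (Nat.land (Nat.shiftRight body 1) 1048575) bound with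
    | false => none
    | true =>
      let f := t.read (Nat.land (Nat.shiftRight body 1) 1048575)
      match Nat.beq (Nat.land body 1) 0 with
      | true => match Nat.beq (fcU f) cur with
        | true => (follow K iv t bound n (Nat.shiftRight body 21) (fcV f)).map
            fun p => (p.1, addLetter K (fcX f) p.2)
        | false => none
      | false => match Nat.beq (fcV f) cur with
        | true => (follow K iv t bound n (Nat.shiftRight body 21) (fcU f)).map
            fun p => (p.1, addLetter K (backLetter K iv (fcX f)) p.2)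
        | false => none

/-- The data. -/
structure Facts where
  K : ℕ
  iv : ℕ
  R : List (List ℕ)
  S : List ℕ
  F : NTree
  N : ℕ

def nextFM (s : ℕ) : ℕ := cond (Nat.beq (fcKind s) 0) (Nat.succ (fcM s)) (fcM s)

def cancels (K iv : ℕ) : List ℕ → Bool
  | [y, z] => Nat.blt y K && Nat.beq z (ivL iv y)
  | _ => false

def natMem (x : ℕ) : List ℕ → Bool
  | [] => false
  | y :: l => Nat.beq y x || natMem x l

theorem natMem_spec {x : ℕ} : ∀ {l : List ℕ}, natMem x l = true → x ∈ l
  | [], h => by simp [natMem] at h
  | y :: l, h => by
    simp only [natMem, Bool.or_eq_true] at h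
    rcases h with h | h
    · exact Nat.eq_of_beq_eq_true h ▸ List.mem_cons_self
    · exact List.mem_cons_of_mem _ (natMem_spec h)

/-- The justification of a fact. -/
def factRule (C : Facts) (i s : ℕ) : Bool :=
  match fcKind s with
  | 0 => Nat.blt (fcU s) (fcM s) && Nat.beq (fcV s) (fcM s) && Nat.blt (fcX s) C.K
  | k + 1 =>
    Nat.blt (fcU s) (fcM s) && Nat.blt (fcV s) (fcM s) && Nat.ble (fcX s) C.K &&
    match k with
    | 0 => match follow C.K C.iv C.F i (fcLen s) (fcBody s) (fcV s) with
      | none => false
      | some (c, w) => Nat.beq c (fcU s) && lbeq (lnth C.R (fcR s)) (addLetter C.K (fcX s) w)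
    | 1 => Nat.beq (fcU s) 0 && Nat.beq (fcV s) 0 && Nat.blt (fcX s) C.K && natMem (fcX s) C.S
    | 2 => match follow C.K C.iv C.F i (fcLen s) (fcBody s) (fcU s) with
      | none => false
      | some (c, w) => Nat.beq c (fcV s) && lbeq w (addLetter C.K (fcX s) [])
    | 3 => match follow C.K C.iv C.F i (fcLen s) (fcBody s) (fcU s) with
      | none => false
      | some (c, w) => Nat.beq c (fcV s) && Nat.beq (fcX s) C.K && cancels C.K C.iv w
    | _ => false

/-- The check of fact `i`. -/
def factOK (C : Facts) (i : ℕ) : Bool :=
  factRule C i (C.F.read i) &&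
    (Nat.beq (Nat.succ i) C.N || Nat.beq (fcM (C.F.read (Nat.succ i))) (nextFM (C.F.read i)))

/-- The check of the facts in `[a, a+n)`. -/
def factsOK (C : Facts) : ℕ → ℕ → Bool
  | _, 0 => true
  | a, n + 1 => factOK C a && factsOK C (Nat.succ a) n

theorem factsOK_spec (C : Facts) : ∀ n a, factsOK C a n = true → ∀ i, a ≤ i → i < a + n → factOK C i = true := by
  intro n
  induction n with
  | zero => intro a _ i h1 h2; omega
  | succ n ih =>
    intro a h i h1 h2
    simp only [factsOK, Bool.and_eq_true] at h
    rcases Nat.eq_or_lt_of_le h1 with e | e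
    · exact e ▸ h.1
    · exact ih (Nat.succ a) h.2 i (by omega) (by omega)

theorem facts_zero (C : Facts) : ∀ i < 0, factOK C i = true := fun i hi => absurd hi (by omega)

theorem facts_add {C : Facts} (a n : ℕ) (h : ∀ i < a, factOK C i = true) (h' : factsOK C a n = true) :
    ∀ i < a + n, factOK C i = true := fun i hi =>
  (Nat.lt_or_ge i a).elim (h i) fun ha => factsOK_spec C n a h' i ha hi

section Sound

variable {G Q : Type*} [Group G] [MulAction G Q] {C : Facts} (e : ℕ → G) (q₀ : Q)

/-- The hypotheses on the letters. -/
structure FactsSat (C : Facts) : Prop where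
  pair : Paired C.K C.iv e
  rel : ∀ w ∈ C.R, prodE e w = 1
  sub : ∀ x ∈ C.S, (e x)⁻¹ • q₀ = q₀

variable (C)

/-- The meaning of a fact. -/
def FactValid (q : ℕ → Q) (s : ℕ) : Prop := actW e (addLetter C.K (fcX s) []) (q (fcU s)) = q (fcV s)

variable {C}

theorem actW_addLetter (x : ℕ) (w : List ℕ) (p : Q) :
    actW e (addLetter C.K x w) p = actW e w (actW e (addLetter C.K x []) p) := by
  cases h : Nat.beq x C.K <;> simp [addLetter, h, actW]

theorem follow_sound (hp : Paired C.K C.iv e) {i : ℕ} {q : ℕ → Q}
    (hv : ∀ j < i, FactValid C e q (C.F.read j) ∧ fcX (C.F.read j) ≤ C.K) :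
    ∀ (n body cur : ℕ) {c : ℕ} {w : List ℕ}, follow C.K C.iv C.F i n body cur = some (c, w) →
      actW e w (q cur) = q c := by
  intro n
  induction n with
  | zero =>
    intro body cur c w h
    simp only [follow, Option.some.injEq, Prod.mk.injEq] at h
    obtain ⟨rfl, rfl⟩ := h
    rfl
  | succ n ih =>
    intro body cur c w h
    simp only [follow] at h
    split at h
    · exact absurd h (by simp)
    · next hlt =>
      have hj : Nat.land (Nat.shiftRight body 1) 1048575 < i := by simpa [Nat.blt] using hlt
      obtain ⟨hvj, hxj⟩ := hv _ hj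
      split at h
      · split at h
        · next hu =>
          rw [Option.map_eq_some_iff] at h
          obtain ⟨⟨c', w'⟩, hw, he⟩ := h
          simp only [Prod.mk.injEq] at he
          obtain ⟨rfl, rfl⟩ := he
          rw [actW_addLetter, ← Nat.eq_of_beq_eq_true hu, hvj]
          exact ih _ _ hw
        · exact absurd h (by simp)
      · split at h
        · next hu =>
          rw [Option.map_eq_some_iff] at h
          obtain ⟨⟨c', w'⟩, hw, he⟩ := h
          simp only [Prod.mk.injEq] at he
          obtain ⟨rfl, rfl⟩ := he
          rw [actW_addLetter, ← Nat.eq_of_beq_eq_true hu]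
          refine Eq.trans (congrArg _ ?_) (ih _ _ hw)
          generalize hf : C.F.read (Nat.land (Nat.shiftRight body 1) 1048575) = f at hvj ⊢
          unfold FactValid at hvj
          rw [← hvj]
          cases hx : Nat.beq (fcX f) C.K
          · have hlt' : fcX f < C.K := by
              have h1 := (hv _ hj).2
              rw [hf] at h1
              rcases Nat.lt_or_eq_of_le h1 with h2 | h2
              · exact h2
              · rw [h2] at hx; simp at hx
            have hne : Nat.beq (ivL C.iv (fcX f)) C.K = false := by
              cases hb : Nat.beq (ivL C.iv (fcX f)) C.K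
              · rfl
              · have := hp.lt _ hlt'; have := Nat.eq_of_beq_eq_true hb; omega
            simp [backLetter, addLetter, hx, hne, actW, hp.inv _ hlt', smul_smul]
          · simp [backLetter, addLetter, hx, actW]
        · exact absurd h (by simp)

/-- The names of the cosets. -/
theorem exists_names (hC : FactsSat e q₀ C) (h0 : fcM (C.F.read 0) = 1)
    (hall : ∀ i < C.N, factOK C i = true) :
    ∃ q : ℕ → Q, q 0 = q₀ ∧ ∀ j < C.N, FactValid C e q (C.F.read j) ∧ fcX (C.F.read j) ≤ C.K := by
  suffices key : ∀ i, i ≤ C.N → ∃ (q : ℕ → Q) (M : ℕ), q 0 = q₀ ∧ 0 < M ∧ (i < C.N → fcM (C.F.read i) = M) ∧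
      ∀ j < i, (FactValid C e q (C.F.read j) ∧ fcX (C.F.read j) ≤ C.K) ∧ fcU (C.F.read j) < M ∧
        fcV (C.F.read j) < M by
    obtain ⟨q, _, hq0, _, _, hq⟩ := key C.N le_rfl
    exact ⟨q, hq0, fun j hj => (hq j hj).1⟩
  intro i
  induction i with
  | zero => exact fun _ => ⟨fun _ => q₀, 1, rfl, one_pos, fun _ => h0, fun j hj => absurd hj (by omega)⟩
  | succ i ih =>
    intro hi
    obtain ⟨q, M, hq0, hMpos, hM, hq⟩ := ih (by omega)
    have hM' := hM (by omega)
    have hok := hall i (by omega)
    simp only [factOK, Bool.and_eq_true, Bool.or_eq_true] at hok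
    obtain ⟨hrule, hnext⟩ := hok
    have hnext' : i + 1 < C.N → fcM (C.F.read (i + 1)) = nextFM (C.F.read i) := fun h => by
      rcases hnext with e | e
      · have := Nat.eq_of_beq_eq_true e
        omega
      · exact Nat.eq_of_beq_eq_true e
    generalize hs : C.F.read i = s at hrule hnext' hM'
    unfold factRule at hrule
    cases hk : fcKind s with
    | zero =>
      rw [hk] at hrule
      simp only [Bool.and_eq_true] at hrule
      obtain ⟨⟨hu, hv⟩, hx⟩ := hrule
      have hu' : fcU s < M := hM' ▸ (by simpa [Nat.blt] using hu)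
      have hv' : fcV s = M := (Nat.eq_of_beq_eq_true hv).trans hM'
      have hx' : fcX s < C.K := by simpa [Nat.blt] using hx
      refine ⟨Function.update q M (actW e (addLetter C.K (fcX s) []) (q (fcU s))), M + 1, ?_, by omega, ?_, ?_⟩
      · rw [Function.update_of_ne (by omega)]; exact hq0
      · intro h
        rw [hnext' h, nextFM, hk, hM']
        rfl
      · intro j hj
        rcases Nat.lt_succ_iff_lt_or_eq.mp hj with hj | rfl
        · obtain ⟨⟨h1, h1'⟩, h2, h3⟩ := hq j hj
          refine ⟨⟨?_, h1'⟩, by omega, by omega⟩
          unfold FactValid at h1 ⊢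
          rw [Function.update_of_ne (by omega), Function.update_of_ne (by omega)]
          exact h1
        · rw [hs]
          refine ⟨⟨?_, hx'.le⟩, by omega, by omega⟩
          unfold FactValid
          rw [hv', Function.update_self, Function.update_of_ne (by omega)]
    | succ k =>
      rw [hk] at hrule
      simp only [Bool.and_eq_true] at hrule
      obtain ⟨⟨⟨hu, hv⟩, hx⟩, hrest⟩ := hrule
      have hu' : fcU s < M := hM' ▸ (by simpa [Nat.blt] using hu)
      have hv' : fcV s < M := hM' ▸ (by simpa [Nat.blt] using hv)
      refine ⟨q, M, hq0, hMpos, ?_, ?_⟩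
      · intro h
        rw [hnext' h, nextFM, hk, hM']
        rfl
      intro j hj
      rcases Nat.lt_succ_iff_lt_or_eq.mp hj with hj | rfl
      · exact hq j hj
      rw [hs]
      refine ⟨⟨?_, Nat.le_of_ble_eq_true hx⟩, hu', hv'⟩
      have hval : ∀ l < j, FactValid C e q (C.F.read l) ∧ fcX (C.F.read l) ≤ C.K := fun l hl => (hq l hl).1
      split at hrest
      · split at hrest
        · exact absurd hrest (by simp)
        · next c w hw =>
          simp only [Bool.and_eq_true] at hrest
          obtain ⟨hc, hr⟩ := hrest
          have e1 := follow_sound e hC.pair hval _ _ _ hw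
          rw [Nat.eq_of_beq_eq_true hc] at e1
          have hfix : actW e (addLetter C.K (fcX s) w) (q (fcU s)) = q (fcU s) := by
            rw [← lbeq_iff hr]
            rcases lnth_mem (l := C.R) (n := fcR s) with h | h
            · exact actW_triv e (hC.rel _ h) _
            · rw [h]; rfl
          rw [actW_addLetter] at hfix
          exact actW_injective e w (hfix.trans e1.symm)
      · simp only [Bool.and_eq_true] at hrest
        obtain ⟨⟨⟨hu0, hv0⟩, hxK⟩, hmem⟩ := hrest
        unfold FactValid
        rw [Nat.eq_of_beq_eq_true hu0, Nat.eq_of_beq_eq_true hv0, hq0]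
        have hne : Nat.beq (fcX s) C.K = false := by
          cases hb : Nat.beq (fcX s) C.K
          · rfl
          · have := Nat.eq_of_beq_eq_true hb
            have hlt : fcX s < C.K := by simpa [Nat.blt] using hxK
            omega
        simp only [addLetter, hne, cond_false, actW]
        exact hC.sub _ (natMem_spec hmem)
      · split at hrest
        · exact absurd hrest (by simp)
        · next c w hw =>
          simp only [Bool.and_eq_true] at hrest
          obtain ⟨hc, hr⟩ := hrest
          unfold FactValid
          rw [← lbeq_iff hr, follow_sound e hC.pair hval _ _ _ hw, Nat.eq_of_beq_eq_true hc]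
      · split at hrest
        · exact absurd hrest (by simp)
        · next c w hw =>
          simp only [Bool.and_eq_true] at hrest
          obtain ⟨⟨hc, hxe⟩, hcan⟩ := hrest
          unfold FactValid
          have e1 := follow_sound e hC.pair hval _ _ _ hw
          rw [Nat.eq_of_beq_eq_true hc] at e1
          simp only [addLetter, hxe, cond_true, actW]
          unfold cancels at hcan
          split at hcan
          · next y z =>
            simp only [Bool.and_eq_true] at hcan
            have hy : y < C.K := by simpa [Nat.blt] using hcan.1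
            rw [← e1, Nat.eq_of_beq_eq_true hcan.2]
            simp [actW, hC.pair.inv y hy, smul_smul]
          · exact absurd hcan (by simp)
      · exact absurd hrest (by simp)

/-- The word of a loop at the origin fixes the origin. -/
theorem loop_fix (hC : FactsSat e q₀ C) (h0 : fcM (C.F.read 0) = 1) (hall : ∀ i < C.N, factOK C i = true)
    (len body : ℕ) {w : List ℕ} (h : follow C.K C.iv C.F C.N len body 0 = some (0, w)) :
    actW e w q₀ = q₀ := by
  obtain ⟨q, hq0, hq⟩ := exists_names e q₀ hC h0 hall
  rw [← hq0]
  exact follow_sound e hC.pair hq _ _ _ h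

/-- With no subgroup, such a word is trivial. -/
theorem loop_triv {G : Type*} [Group G] {C : Facts} (e : ℕ → G) (hp : Paired C.K C.iv e)
    (hR : ∀ w ∈ C.R, prodE e w = 1) (hS : C.S = []) (h0 : fcM (C.F.read 0) = 1)
    (hall : ∀ i < C.N, factOK C i = true) (len body : ℕ) {w : List ℕ}
    (h : follow C.K C.iv C.F C.N len body 0 = some (0, w)) : prodE e w = 1 := by
  have h' := loop_fix (Q := G) e (1 : G) ⟨hp, hR, fun x hx => by rw [hS] at hx; simp at hx⟩ h0 hall len body h
  rw [actW_eq, smul_eq_mul, mul_one, inv_eq_one] at h'
  exact h'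

end Sound

end Cfsg.Agent.InvCoset
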