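import Cfsg.Agent.Lib.InvCoset.Table

/-!
# The action on a table and the index
-/

set_option autoImplicit false
set_option linter.all false

noncomputable section

namespace Cfsg.Agent.InvCoset

variable (D : Tab)

def Tab.fixWords (c : ℕ) : List (List ℕ) → Bool
  | [] => true
  | w :: l => Nat.beq (D.runW w c) c && fixWords c l

def Tab.relsChk (W : List (List ℕ)) : ℕ → ℕ → Bool
  | _, 0 => true
  | a, n + 1 => D.fixWords a W && relsChk W (Nat.succ a) n

variable {D}

theorem fixWords_spec {c : ℕ} : ∀ {l : List (List ℕ)}, D.fixWords c l = true → ∀ w ∈ l, D.runW w c = c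
  | [], _, w, hw => by simp at hw
  | v :: l, h, w, hw => by
    simp only [Tab.fixWords, Bool.and_eq_true] at h
    rcases List.mem_cons.mp hw with rfl | hw
    · exact Nat.eq_of_beq_eq_true h.1
    · exact fixWords_spec h.2 w hw

theorem relsChk_spec {W : List (List ℕ)} : ∀ n a, D.relsChk W a n = true →
    ∀ i, a ≤ i → i < a + n → D.fixWords i W = true := by
  intro n
  induction n with
  | zero => intro a _ i h1 h2; omega
  | succ n ih =>
    intro a h i h1 h2
    simp only [Tab.relsChk, Bool.and_eq_true] at h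
    rcases Nat.eq_or_lt_of_le h1 with e | e
    · exact e ▸ h.1
    · exact ih (Nat.succ a) h.2 i (by omega) (by omega)

theorem rels_zero (W : List (List ℕ)) : ∀ i < 0, D.fixWords i W = true := fun i hi => absurd hi (by omega)

theorem rels_add {W : List (List ℕ)} (a n : ℕ) (h : ∀ i < a, D.fixWords i W = true)
    (h' : D.relsChk W a n = true) : ∀ i < a + n, D.fixWords i W = true := fun i hi =>
  (Nat.lt_or_ge i a).elim (h i) fun ha => relsChk_spec n a h' i ha hi

variable {seeds : List (ℕ × ℕ × List ℕ)} {W : List (List ℕ)} (hD : D.Certified seeds W)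
include hD

/-- The permutation given by a letter, from the right: its inverse moves a row along the letter. -/
def permE (x : ℕ) : Equiv.Perm (Fin D.n) :=
  if hx : x < D.K then
    { toFun := fun c => ⟨D.tgt c (ivL D.iv x), (cellFacts hD c.2 (ivChk_spec _ hD.inverse x hx).1).1⟩
      invFun := fun c => ⟨D.tgt c x, (cellFacts hD c.2 hx).1⟩
      left_inv := fun c => Fin.ext (by
        have h := (cellFacts hD c.2 (ivChk_spec _ hD.inverse x hx).1).2.1
        rwa [(ivChk_spec _ hD.inverse x hx).2] at h)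
      right_inv := fun c => Fin.ext (cellFacts hD c.2 hx).2.1 }
  else 1

theorem permE_inv_apply {x : ℕ} (hx : x < D.K) (c : Fin D.n) :
    (((permE hD x)⁻¹ : Equiv.Perm (Fin D.n)) c : ℕ) = D.tgt c x := by
  rw [permE, dif_pos hx]
  rfl

theorem permE_paired : Paired D.K D.iv (permE hD) where
  lt x hx := (ivChk_spec _ hD.inverse x hx).1
  inv x hx := by
    apply inv_injective
    rw [inv_inv]
    refine Equiv.ext fun c => Fin.ext ?_
    rw [permE_inv_apply hD (ivChk_spec _ hD.inverse x hx).1, permE, dif_pos hx]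
    rfl

theorem actW_permE : ∀ (w : List ℕ), (∀ y ∈ w, y < D.K) → ∀ c : Fin D.n,
    ((actW (permE hD) w c : Fin D.n) : ℕ) = D.runW w c
  | [], _, c => rfl
  | y :: w, hw, c => by
    rw [actW, actW_permE w fun z hz => hw z (List.mem_cons_of_mem _ hz), Equiv.Perm.smul_def,
      permE_inv_apply hD (hw y List.mem_cons_self)]
    rfl

theorem prodE_permE {w : List ℕ} (hw : ∀ y ∈ w, y < D.K) (hfix : ∀ c < D.n, D.runW w c = c) :
    prodE (permE hD) w = 1 := by
  rw [← inv_eq_one]
  refine Equiv.ext fun c => Fin.ext ?_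
  rw [← Equiv.Perm.smul_def, ← actW_eq, actW_permE hD w hw, hfix c c.2]
  rfl

variable {G : Type*} [Group G] {H : Subgroup G} (e : ℕ → G) (φ : G →* Equiv.Perm (Fin D.n))
  (hφ : ∀ x < D.K, φ (e x) = permE hD x) (hp : Paired D.K D.iv e) (hW : ∀ w ∈ W, prodE e w = 1)
  (Sw : List (List ℕ)) (hSK : ∀ w ∈ Sw, ∀ y ∈ w, y < D.K) (hS0 : D.fixWords 0 Sw = true)
  (hseed : ∀ s ∈ seeds, prodE e s.2.2 ∈ H)
  (hgen : Subgroup.closure (e '' {x | x < D.K}) = ⊤) (hH : H = Subgroup.closure (prodE e '' {w | w ∈ Sw}))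
include hφ

theorem map_prodE_permE : ∀ w : List ℕ, (∀ y ∈ w, y < D.K) → φ (prodE e w) = prodE (permE hD) w
  | [], _ => map_one φ
  | y :: w, hw => by
    rw [prodE, prodE, map_mul, hφ y (hw y List.mem_cons_self),
      map_prodE_permE w fun z hz => hw z (List.mem_cons_of_mem _ hz)]

include hSK hS0 hH

theorem zero_fixed : ∀ h ∈ H, φ h ⟨0, hD.pos⟩ = ⟨0, hD.pos⟩ := by
  intro h hh
  rw [hH] at hh
  induction hh using Subgroup.closure_induction with
  | mem y hy =>
    obtain ⟨w, hw, rfl⟩ := hy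
    rw [map_prodE_permE hD e φ hφ w (hSK w hw), ← Equiv.Perm.eq_inv_iff_eq]
    symm
    refine Fin.ext ?_
    rw [← Equiv.Perm.smul_def, ← actW_eq, actW_permE hD w (hSK w hw)]
    exact fixWords_spec hS0 w hw
  | one => rw [map_one]; rfl
  | mul a b _ _ iha ihb => rw [map_mul, Equiv.Perm.mul_apply, ihb, iha]
  | inv a _ ih => rw [map_inv, Equiv.Perm.inv_eq_iff_eq, ih]

include hp hW hseed hgen

/-- The rows are the cosets. -/
theorem rows_equiv : ∃ ρ : Fin D.n ≃ G ⧸ H,
    ρ ⟨0, hD.pos⟩ = QuotientGroup.mk 1 ∧ ∀ (a : G) (c : Fin D.n), a • ρ c = ρ (φ a c) := by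
  have hS : ∀ s ∈ seeds, actW e s.2.2 (QuotientGroup.mk 1 : G ⧸ H) = QuotientGroup.mk 1 := fun s hs => by
    rw [actW_eq, MulAction.Quotient.smul_mk, smul_eq_mul, mul_one, QuotientGroup.eq, mul_one, inv_inv]
    exact hseed s hs
  obtain ⟨ρ, hρ, hρdef⟩ := rows_cover hD e (QuotientGroup.mk 1 : G ⧸ H) hp hW hS hgen fun p =>
    QuotientGroup.induction_on p fun a => ⟨a, by rw [MulAction.Quotient.smul_mk, smul_eq_mul, mul_one]⟩
  let ψ : G ⧸ H → Fin D.n := fun p => Quotient.liftOn' p (fun a => φ a ⟨0, hD.pos⟩) fun a b hab => by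
    rw [QuotientGroup.leftRel_apply] at hab
    calc φ a ⟨0, hD.pos⟩ = φ a (φ (a⁻¹ * b) ⟨0, hD.pos⟩) := by
          rw [zero_fixed hD e φ hφ Sw hSK hS0 hH _ hab]
      _ = φ b ⟨0, hD.pos⟩ := by rw [← Equiv.Perm.mul_apply, ← map_mul, mul_inv_cancel_left]
  have hψ : ∀ (a : G) (p : G ⧸ H), ψ (a • p) = φ a (ψ p) := fun a p =>
    QuotientGroup.induction_on p fun b => by
      show φ (a * b) _ = φ a (φ b _)
      rw [map_mul]; rfl
  have hψ0 : ψ (QuotientGroup.mk 1) = ⟨0, hD.pos⟩ := by
    show φ 1 _ = _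
    rw [map_one]; rfl
  have hleft : ∀ c, ψ (ρ c) = c := by
    suffices ∀ m, ∀ c : Fin D.n, D.depth c = m → ψ (ρ c) = c from fun c => this _ c rfl
    intro m c hm
    have hfix : ∀ f, ∀ d : Fin D.n, D.depth d ≤ f → D.runW (D.pathTo f d) 0 = d := by
      intro f
      induction f with
      | zero =>
        intro d hd
        by_contra hne
        have h0 : (d : ℕ) ≠ 0 := fun h => hne (by rw [h]; rfl)
        have := (parFacts hD d.2 h0).2
        omega
      | succ f ih =>
        intro d hd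
        rcases eq_or_ne (d : ℕ) 0 with h0 | h0
        · rw [h0]; rfl
        · obtain ⟨hpar, hlt⟩ := parFacts hD d.2 h0
          obtain ⟨htlt, hback, -⟩ := cellFacts hD d.2 hpar
          have hb : Nat.beq d 0 = false := by
            cases hb : Nat.beq d 0
            · rfl
            · exact absurd (Nat.eq_of_beq_eq_true hb) h0
          rw [Tab.pathTo, hb, cond_false]
          have happ : ∀ (u v : List ℕ) (z : ℕ), D.runW (u ++ v) z = D.runW v (D.runW u z) := by
            intro u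
            induction u with
            | nil => intros; rfl
            | cons y u ihu => intro v z; exact ihu v (D.tgt z y)
          rw [happ, ih ⟨_, htlt⟩ (Nat.le_of_lt_succ (Nat.lt_of_lt_of_le hlt hd))]
          exact hback
    have hK := pathTo_range hD _ _ c.2 (le_refl (D.depth c))
    rw [hρdef c, actW_eq, hψ, hψ0, map_inv, map_prodE_permE hD e φ hφ _ hK, ← Equiv.Perm.smul_def, ← actW_eq]
    refine Fin.ext ?_
    rw [actW_permE hD _ hK]
    exact hfix _ c le_rfl
  have hinj : Function.Injective ρ := fun a b h => by rw [← hleft a, h, hleft b]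
  refine ⟨Equiv.ofBijective ρ ⟨hinj, hρ⟩, ?_, fun a c => ?_⟩
  · obtain ⟨d, hd⟩ := hρ (QuotientGroup.mk 1)
    show ρ ⟨0, hD.pos⟩ = _
    have h0 := hleft d
    rw [hd, hψ0] at h0
    rw [h0]; exact hd
  · obtain ⟨d, hd⟩ := hρ (a • ρ c)
    show a • ρ c = ρ (φ a c)
    have h0 := hleft d
    rw [hd, hψ, hleft] at h0
    rw [h0]; exact hd.symm

theorem index_eq_rows : H.index = D.n := by
  obtain ⟨ρ, -, -⟩ := rows_equiv hD e φ hφ hp hW Sw hSK hS0 hseed hgen hH
  rw [Subgroup.index_eq_card, ← Nat.card_congr ρ, Nat.card_fin]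

end Cfsg.Agent.InvCoset
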