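import Cfsg.Agent.Lib.InvCoset.Index

/-!
# Orbits of some letters on a table
-/

set_option autoImplicit false
set_option linter.all false

noncomputable section

namespace Cfsg.Agent.InvCoset

/-- Orbit labels: for each row a label, a depth and a letter towards the root of its label. -/
structure OrbitData where
  m : ℕ
  O : NTree
  roots : List ℕ

def rootOf (l : List ℕ) : ℕ → ℕ :=
  List.rec (motive := fun _ => ℕ → ℕ) (fun _ => 0)
    (fun a _ ih i => Bool.rec (motive := fun _ => ℕ) (ih (Nat.sub i 1)) a (Nat.beq i 0)) l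

variable (D : Tab) (B : OrbitData)

def OrbitData.cell (c : ℕ) : ℕ :=
  Nat.land (Nat.shiftRight (B.O.read (Nat.shiftRight c 7)) (Nat.mul 16 (Nat.land c 127))) 65535

def OrbitData.lab (c : ℕ) : ℕ := Nat.land (B.cell c) 15
def OrbitData.step (c : ℕ) : ℕ := Nat.land (Nat.shiftRight (B.cell c) 4) 15
def OrbitData.lev (c : ℕ) : ℕ := Nat.shiftRight (B.cell c) 8

def Tab.sameLab (c : ℕ) : ℕ → Bool
  | 0 => true
  | x + 1 => Nat.beq (B.lab (D.tgt c x)) (B.lab c) && sameLab c x

def Tab.orbChk (c : ℕ) : Bool :=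
  D.sameLab B c B.m &&
    match B.lev c with
    | 0 => Nat.beq c (rootOf B.roots (B.lab c))
    | _ + 1 => Nat.blt (B.step c) B.m && Nat.blt (B.lev (D.tgt c (B.step c))) (B.lev c)

def Tab.orbsChk : ℕ → ℕ → Bool
  | _, 0 => true
  | a, n + 1 => D.orbChk B a && orbsChk (Nat.succ a) n

theorem orbsChk_spec {D : Tab} {B : OrbitData} : ∀ n a, D.orbsChk B a n = true →
    ∀ i, a ≤ i → i < a + n → D.orbChk B i = true := by
  intro n
  induction n with
  | zero => intro a _ i h1 h2; omega
  | succ n ih =>
    intro a h i h1 h2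
    simp only [Tab.orbsChk, Bool.and_eq_true] at h
    rcases Nat.eq_or_lt_of_le h1 with e | e
    · exact e ▸ h.1
    · exact ih (Nat.succ a) h.2 i (by omega) (by omega)

theorem orbs_zero : ∀ i < 0, D.orbChk B i = true := fun i hi => absurd hi (by omega)

theorem orbs_add {D : Tab} {B : OrbitData} (a n : ℕ) (h : ∀ i < a, D.orbChk B i = true)
    (h' : D.orbsChk B a n = true) : ∀ i < a + n, D.orbChk B i = true := fun i hi =>
  (Nat.lt_or_ge i a).elim (h i) fun ha => orbsChk_spec n a h' i ha hi

/-- How many rows in a range have a label. -/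
def OrbitData.countLab (l : ℕ) : ℕ → ℕ → ℕ
  | _, 0 => 0
  | a, n + 1 => cond (Nat.beq (B.lab a) l) (Nat.succ (countLab l (Nat.succ a) n)) (countLab l (Nat.succ a) n)

theorem countLab_eq {B : OrbitData} (l : ℕ) :
    ∀ n a, B.countLab l a n = ((Finset.Ico a (a + n)).filter fun c => B.lab c = l).card := by
  intro n
  induction n with
  | zero => intro a; simp [OrbitData.countLab]
  | succ n ih =>
    intro a
    rw [OrbitData.countLab, ih, show a + (n + 1) = a + 1 + n by omega,
      ← Finset.insert_Ico_succ_left_eq_Ico (show a < a + 1 + n by omega), Finset.filter_insert]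
    cases h : Nat.beq (B.lab a) l
    · rw [if_neg (fun e => by rw [e] at h; simp at h), cond_false]; rfl
    · rw [if_pos (Nat.eq_of_beq_eq_true h), cond_true, Finset.card_insert_of_notMem (by simp)]; rfl

theorem count_zero (l : ℕ) : ((Finset.range 0).filter fun c => B.lab c = l).card = 0 := rfl

theorem count_add {B : OrbitData} {l : ℕ} (a n : ℕ) {s k : ℕ}
    (h : ((Finset.range a).filter fun c => B.lab c = l).card = s) (h' : B.countLab l a n = k) :
    ((Finset.range (a + n)).filter fun c => B.lab c = l).card = s + k := by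
  rw [← h, ← h', countLab_eq, Finset.range_eq_Ico,
    ← Finset.Ico_union_Ico_eq_Ico (Nat.zero_le a) (Nat.le_add_right a n), Finset.filter_union,
    Finset.card_union_of_disjoint (Finset.disjoint_filter_filter (Finset.Ico_disjoint_Ico_consecutive 0 a (a + n))),
    ← Finset.range_eq_Ico]

/-- Distinct rows spanned from the first by letters: each later one comes by a letter from an earlier one. -/
def Tab.spanChk (m : ℕ) (pts ls ps : List ℕ) : ℕ → Bool
  | 0 => true
  | i + 1 => spanChk m pts ls ps i &&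
    cond (Nat.beq i 0) true
      (Nat.blt (rootOf ls i) m && Nat.blt (rootOf ps i) i &&
        Nat.beq (D.tgt (rootOf pts (rootOf ps i)) (rootOf ls i)) (rootOf pts i))

def notIn (x : ℕ) : List ℕ → Bool
  | [] => true
  | y :: l => !Nat.beq y x && notIn x l

def distinctL : List ℕ → Bool
  | [] => true
  | x :: l => notIn x l && distinctL l

theorem notIn_spec {x : ℕ} : ∀ {l : List ℕ}, notIn x l = true → x ∉ l
  | [], _, h => by simp at h
  | y :: l, h, hm => by
    simp only [notIn, Bool.and_eq_true, Bool.not_eq_true'] at h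
    rcases List.mem_cons.mp hm with rfl | hm
    · simp at h
    · exact notIn_spec h.2 hm

theorem distinctL_spec : ∀ {l : List ℕ}, distinctL l = true → l.Nodup
  | [], _ => List.nodup_nil
  | x :: l, h => by
    simp only [distinctL, Bool.and_eq_true] at h
    exact List.nodup_cons.mpr ⟨notIn_spec h.1, distinctL_spec h.2⟩

theorem spanChk_spec {D : Tab} {m : ℕ} {pts ls ps : List ℕ} : ∀ n, D.spanChk m pts ls ps n = true →
    ∀ i, 0 < i → i < n → rootOf ls i < m ∧ rootOf ps i < i ∧
      D.tgt (rootOf pts (rootOf ps i)) (rootOf ls i) = rootOf pts i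
  | 0, _, i, _, hi => absurd hi (by omega)
  | n + 1, h, i, h0, hi => by
    simp only [Tab.spanChk, Bool.and_eq_true] at h
    rcases Nat.lt_succ_iff_lt_or_eq.mp hi with e | rfl
    · exact spanChk_spec n h.1 i h0 e
    · have h2 := h.2
      rw [show Nat.beq i 0 = false by
        cases hb : Nat.beq i 0
        · rfl
        · exact absurd (Nat.eq_of_beq_eq_true hb) (by omega), cond_false] at h2
      simp only [Bool.and_eq_true] at h2
      exact ⟨by simpa [Nat.blt] using h2.1.1, by simpa [Nat.blt] using h2.1.2, Nat.eq_of_beq_eq_true h2.2⟩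

theorem rootOf_mem : ∀ {l : List ℕ} {i : ℕ}, i < l.length → rootOf l i ∈ l
  | [], i, h => by simp at h
  | a :: l, 0, _ => List.mem_cons_self
  | a :: l, i + 1, h => List.mem_cons_of_mem _ (rootOf_mem (by simpa using h))

theorem exists_rootOf : ∀ {l : List ℕ} {y : ℕ}, y ∈ l → ∃ i < l.length, rootOf l i = y
  | [], y, h => by simp at h
  | a :: l, y, h => by
    rcases List.mem_cons.mp h with rfl | h
    · exact ⟨0, by simp, rfl⟩
    · obtain ⟨i, hi, e⟩ := exists_rootOf h
      exact ⟨i + 1, by simpa using hi, e⟩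

section Span

variable {D} {B} {seeds : List (ℕ × ℕ × List ℕ)} {W : List (List ℕ)} (hD : D.Certified seeds W)
  {G : Type*} [Group G] (e : ℕ → G) (φ : G →* Equiv.Perm (Fin D.n))
  (hφ : ∀ x < D.K, φ (e x) = permE hD x)
include hφ

theorem sameLab_spec {c : ℕ} : ∀ m, D.sameLab B c m = true → ∀ x < m, B.lab (D.tgt c x) = B.lab c
  | 0, _, x, hx => absurd hx (by omega)
  | m + 1, h, x, hx => by
    simp only [Tab.sameLab, Bool.and_eq_true] at h
    rcases Nat.lt_succ_iff_lt_or_eq.mp hx with e | rfl
    · exact sameLab_spec m h.2 x e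
    · exact Nat.eq_of_beq_eq_true h.1

/-- Spanned rows lie in one orbit. -/
theorem span_orbit (H : Subgroup G) {m : ℕ} (hm : m ≤ D.K) (hH : ∀ x < m, e x ∈ H) {pts ls ps : List ℕ}
    (hc : D.spanChk m pts ls ps pts.length = true) (p0 : Fin D.n) (hp0 : (p0 : ℕ) = rootOf pts 0) :
    ∀ i, i < pts.length → ∃ h ∈ H, (φ h p0 : ℕ) = rootOf pts i := by
  intro i
  induction i using Nat.strong_induction_on with
  | _ i ih =>
    intro hi
    rcases Nat.eq_zero_or_pos i with rfl | h0
    · exact ⟨1, one_mem H, by rw [map_one]; exact hp0⟩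
    · obtain ⟨hl, hp, ht⟩ := spanChk_spec _ hc i h0 hi
      obtain ⟨h, hh, he⟩ := ih _ hp (by omega)
      refine ⟨(e (rootOf ls i))⁻¹ * h, mul_mem (inv_mem (hH _ hl)) hh, ?_⟩
      rw [map_mul, map_inv, Equiv.Perm.mul_apply, hφ _ (by omega), permE_inv_apply hD (by omega), he, ht]

/-- Rows of one label lie in one orbit. -/
theorem lab_orbit (H : Subgroup G) (hm : B.m ≤ D.K) (hH : ∀ x < B.m, e x ∈ H)
    (hp : Paired D.K D.iv e) (horb : ∀ c < D.n, D.orbChk B c = true) :
    ∀ (k : ℕ) (c : Fin D.n), B.lev c = k →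
      ∃ h ∈ H, ∃ r : Fin D.n, (r : ℕ) = rootOf B.roots (B.lab c) ∧ φ h r = c := by
  intro k
  induction k using Nat.strong_induction_on with
  | _ k ih =>
    intro c hk
    have h := horb c c.2
    simp only [Tab.orbChk, Bool.and_eq_true] at h
    obtain ⟨hlab, hrest⟩ := h
    cases hk' : B.lev c with
    | zero =>
      rw [hk'] at hrest
      exact ⟨1, one_mem H, c, Nat.eq_of_beq_eq_true hrest, by rw [map_one]; rfl⟩
    | succ j =>
      rw [hk'] at hrest
      simp only [Bool.and_eq_true] at hrest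
      have hs : B.step c < B.m := by simpa [Nat.blt] using hrest.1
      have hlt : B.lev (D.tgt c (B.step c)) < j + 1 := by simpa [Nat.blt] using hrest.2
      have hx : B.step c < D.K := by omega
      set d : Fin D.n := ⟨D.tgt c (B.step c), (cellFacts hD c.2 hx).1⟩
      obtain ⟨h', hh', r, hr, he⟩ := ih (B.lev d) (by rw [← hk, hk']; exact hlt) d rfl
      refine ⟨e (B.step c) * h', mul_mem (hH _ hs) hh', r, ?_, ?_⟩
      · rw [hr]
        show rootOf B.roots (B.lab (D.tgt c (B.step c))) = _
        rw [sameLab_spec hD e φ hφ _ hlab _ hs]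
      · have hd : ((permE hD (B.step c))⁻¹ : Equiv.Perm (Fin D.n)) c = d := Fin.ext (permE_inv_apply hD hx c)
        rw [map_mul, Equiv.Perm.mul_apply, he, hφ _ hx, ← hd, Equiv.Perm.coe_inv, Equiv.apply_symm_apply]

end Span

end Cfsg.Agent.InvCoset
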