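import Cfsg.Agent.Lib.InvCoset.Word

/-!
# Coset tables certified by a spanning tree and relator cycles

Every cell of the table is an edge of the spanning tree, the reverse of another cell, a cell given in advance, or
the last missing edge of a relator cycle whose other edges have smaller rank.
-/

set_option autoImplicit false
set_option linter.all false

noncomputable section

namespace Cfsg.Agent.InvCoset

/-- A table with its certificate. -/
structure Tab where
  K : ℕ
  iv : ℕ
  n : ℕ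
  T : NTree
  J : NTree
  P : NTree
  R : NTree
  nR : ℕ

variable (D : Tab)

def Tab.tgt (c x : ℕ) : ℕ :=
  Nat.land (Nat.shiftRight (D.T.read (Nat.shiftRight c 7))
    (Nat.mul 17 (Nat.add (Nat.mul D.K (Nat.land c 127)) x))) 131071

def Tab.just (c x : ℕ) : ℕ :=
  Nat.land (Nat.shiftRight (D.J.read (Nat.shiftRight c 7))
    (Nat.mul 20 (Nat.add (Nat.mul D.K (Nat.land c 127)) x))) 1048575

def Tab.rank (c x : ℕ) : ℕ := Nat.shiftRight (D.just c x) 9
def Tab.code (c x : ℕ) : ℕ := Nat.land (D.just c x) 511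

def Tab.node (c : ℕ) : ℕ :=
  Nat.land (Nat.shiftRight (D.P.read (Nat.shiftRight c 7)) (Nat.mul 12 (Nat.land c 127))) 4095

def Tab.depth (c : ℕ) : ℕ := Nat.shiftRight (D.node c) 4
def Tab.par (c : ℕ) : ℕ := Nat.land (D.node c) 15

/-- Follow a word in the table. -/
def Tab.runW (w : List ℕ) : ℕ → ℕ :=
  List.rec (motive := fun _ => ℕ → ℕ) (fun c => c) (fun y _ ih c => ih (D.tgt c y)) w

def unpackW : ℕ → ℕ → List ℕ
  | 0, _ => []
  | n + 1, b => Nat.land b 15 :: unpackW n (Nat.shiftRight b 4)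

/-- The rest of a relator cycle, along cells of smaller rank. -/
def Tab.cycle (r t : ℕ) : ℕ → ℕ → ℕ → Bool
  | 0, _, cur => Nat.beq cur t
  | n + 1, b, cur => Nat.blt (Nat.land b 15) D.K && Nat.blt (D.rank cur (Nat.land b 15)) r &&
      cycle r t n (Nat.shiftRight b 4) (D.tgt cur (Nat.land b 15))

def seedMem (c x : ℕ) : List (ℕ × ℕ × List ℕ) → Bool
  | [] => false
  | s :: l => (Nat.beq s.1 c && Nat.beq s.2.1 x) || seedMem c x l

/-- The justification of a cell. -/
def Tab.cellJust (seeds : List (ℕ × ℕ × List ℕ)) (c x : ℕ) : Bool :=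
  match D.code c x with
  | 0 => Nat.beq (D.par c) x && Nat.blt (D.depth (D.tgt c x)) (D.depth c)
  | 1 => Nat.beq (D.rank (D.tgt c x) (ivL D.iv x)) (D.rank c x) &&
      !Nat.beq (D.code (D.tgt c x) (ivL D.iv x)) 1
  | 2 => seedMem c x seeds
  | k + 3 => Nat.blt k D.nR && Nat.blt 0 (Nat.land (D.R.read k) 255) &&
      Nat.beq (Nat.land (Nat.shiftRight (D.R.read k) 8) 15) x &&
      D.cycle (D.rank c x) c (Nat.sub (Nat.land (D.R.read k) 255) 1) (Nat.shiftRight (D.R.read k) 12) (D.tgt c x)

def Tab.cellChk (seeds : List (ℕ × ℕ × List ℕ)) (c x : ℕ) : Bool :=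
  Nat.blt (D.tgt c x) D.n && Nat.beq (D.tgt (D.tgt c x) (ivL D.iv x)) c && D.cellJust seeds c x

def Tab.cellsChk (seeds : List (ℕ × ℕ × List ℕ)) (c : ℕ) : ℕ → Bool
  | 0 => true
  | x + 1 => D.cellChk seeds c x && cellsChk seeds c x

def Tab.nodeChk (c : ℕ) : Bool :=
  Nat.beq c 0 || (Nat.blt (D.par c) D.K && Nat.blt (D.depth (D.tgt c (D.par c))) (D.depth c))

def Tab.rowsChk (seeds : List (ℕ × ℕ × List ℕ)) : ℕ → ℕ → Bool
  | _, 0 => true
  | a, n + 1 => (D.nodeChk a && D.cellsChk seeds a D.K) && rowsChk seeds (Nat.succ a) n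

/-- The words to the rows along the tree. -/
def Tab.pathTo : ℕ → ℕ → List ℕ
  | 0, _ => []
  | f + 1, c => cond (Nat.beq c 0) [] (Tab.pathTo f (D.tgt c (D.par c)) ++ [ivL D.iv (D.par c)])

def Tab.seedWord (c x : ℕ) : List ℕ :=
  D.pathTo (D.depth c) c ++ (x :: invW D.iv (D.pathTo (D.depth (D.tgt c x)) (D.tgt c x)))

def Tab.seedsChk : List (ℕ × ℕ × List ℕ) → Bool
  | [] => true
  | s :: l => Nat.blt s.1 D.n && lbeq s.2.2 (D.seedWord s.1 s.2.1) && seedsChk l

def Tab.rotsChk (L : List (List ℕ)) : ℕ → Bool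
  | 0 => true
  | k + 1 => lmem (unpackW (Nat.land (D.R.read k) 255) (Nat.shiftRight (D.R.read k) 8)) L && rotsChk L k

def ivChk (K iv : ℕ) : ℕ → Bool
  | 0 => true
  | x + 1 => Nat.blt (ivL iv x) K && Nat.beq (ivL iv (ivL iv x)) x && ivChk K iv x

theorem ivChk_spec {K iv : ℕ} : ∀ m, ivChk K iv m = true → ∀ x < m, ivL iv x < K ∧ ivL iv (ivL iv x) = x
  | 0, _, x, hx => absurd hx (by omega)
  | m + 1, h, x, hx => by
    simp only [ivChk, Bool.and_eq_true] at h
    rcases Nat.lt_succ_iff_lt_or_eq.mp hx with e | rfl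
    · exact ivChk_spec m h.2 x e
    · exact ⟨by simpa [Nat.blt] using h.1.1, Nat.eq_of_beq_eq_true h.1.2⟩

/-- What is evaluated for an upper bound. -/
structure Tab.Certified (seeds : List (ℕ × ℕ × List ℕ)) (W : List (List ℕ)) : Prop where
  pos : 0 < D.n
  inverse : ivChk D.K D.iv D.K = true
  root : D.depth 0 = 0
  rows : ∀ c < D.n, (D.nodeChk c && D.cellsChk seeds c D.K) = true
  words : ∀ w ∈ W, ∀ y ∈ w, y < D.K
  rots : D.rotsChk (allRots D.iv W) D.nR = true
  seedWords : D.seedsChk seeds = true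

theorem rowsChk_spec {D : Tab} {seeds : List (ℕ × ℕ × List ℕ)} : ∀ n a, D.rowsChk seeds a n = true →
    ∀ i, a ≤ i → i < a + n → (D.nodeChk i && D.cellsChk seeds i D.K) = true := by
  intro n
  induction n with
  | zero => intro a _ i h1 h2; omega
  | succ n ih =>
    intro a h i h1 h2
    rw [Tab.rowsChk, Bool.and_eq_true] at h
    rcases Nat.eq_or_lt_of_le h1 with e | e
    · exact e ▸ h.1
    · exact ih (Nat.succ a) h.2 i (by omega) (by omega)

theorem rows_zero (seeds : List (ℕ × ℕ × List ℕ)) :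
    ∀ i < 0, (D.nodeChk i && D.cellsChk seeds i D.K) = true := fun i hi => absurd hi (by omega)

theorem rows_add {D : Tab} {seeds : List (ℕ × ℕ × List ℕ)} (a n : ℕ)
    (h : ∀ i < a, (D.nodeChk i && D.cellsChk seeds i D.K) = true) (h' : D.rowsChk seeds a n = true) :
    ∀ i < a + n, (D.nodeChk i && D.cellsChk seeds i D.K) = true := fun i hi =>
  (Nat.lt_or_ge i a).elim (h i) fun ha => rowsChk_spec n a h' i ha hi

theorem cellsChk_spec {D : Tab} {seeds : List (ℕ × ℕ × List ℕ)} {c : ℕ} :
    ∀ K, D.cellsChk seeds c K = true → ∀ x < K, D.cellChk seeds c x = true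
  | 0, _, x, hx => absurd hx (by omega)
  | K + 1, h, x, hx => by
    simp only [Tab.cellsChk, Bool.and_eq_true] at h
    rcases Nat.lt_succ_iff_lt_or_eq.mp hx with e | rfl
    · exact cellsChk_spec K h.2 x e
    · exact h.1

theorem rotsChk_spec {D : Tab} {L : List (List ℕ)} : ∀ m, D.rotsChk L m = true →
    ∀ k < m, unpackW (Nat.land (D.R.read k) 255) (Nat.shiftRight (D.R.read k) 8) ∈ L
  | 0, _, k, hk => absurd hk (by omega)
  | m + 1, h, k, hk => by
    simp only [Tab.rotsChk, Bool.and_eq_true] at h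
    rcases Nat.lt_succ_iff_lt_or_eq.mp hk with e | rfl
    · exact rotsChk_spec m h.2 k e
    · exact lmem_spec h.1

theorem seedsChk_spec {D : Tab} : ∀ {l : List (ℕ × ℕ × List ℕ)}, D.seedsChk l = true →
    ∀ s ∈ l, s.1 < D.n ∧ s.2.2 = D.seedWord s.1 s.2.1
  | [], _, s, hs => by simp at hs
  | t :: l, h, s, hs => by
    simp only [Tab.seedsChk, Bool.and_eq_true] at h
    rcases List.mem_cons.mp hs with rfl | hs
    · exact ⟨by simpa [Nat.blt] using h.1.1, lbeq_iff h.1.2⟩
    · exact seedsChk_spec h.2 s hs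

theorem seedMem_spec {c x : ℕ} : ∀ {l : List (ℕ × ℕ × List ℕ)}, seedMem c x l = true →
    ∃ s ∈ l, s.1 = c ∧ s.2.1 = x
  | [], h => by simp [seedMem] at h
  | t :: l, h => by
    simp only [seedMem, Bool.or_eq_true, Bool.and_eq_true] at h
    rcases h with ⟨h1, h2⟩ | h
    · exact ⟨t, List.mem_cons_self, Nat.eq_of_beq_eq_true h1, Nat.eq_of_beq_eq_true h2⟩
    · obtain ⟨s, hs, e⟩ := seedMem_spec h
      exact ⟨s, List.mem_cons_of_mem _ hs, e⟩

section Sound

variable {D} {seeds : List (ℕ × ℕ × List ℕ)} {W : List (List ℕ)} (hD : D.Certified seeds W)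
include hD

theorem cellFacts {c x : ℕ} (hc : c < D.n) (hx : x < D.K) :
    D.tgt c x < D.n ∧ D.tgt (D.tgt c x) (ivL D.iv x) = c ∧ D.cellJust seeds c x = true := by
  have h := hD.rows c hc
  simp only [Bool.and_eq_true] at h
  have h' := cellsChk_spec _ h.2 x hx
  simp only [Tab.cellChk, Bool.and_eq_true] at h'
  exact ⟨by simpa [Nat.blt] using h'.1.1, Nat.eq_of_beq_eq_true h'.1.2, h'.2⟩

theorem parFacts {c : ℕ} (hc : c < D.n) (h0 : c ≠ 0) :
    D.par c < D.K ∧ D.depth (D.tgt c (D.par c)) < D.depth c := by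
  have h := hD.rows c hc
  simp only [Bool.and_eq_true, Tab.nodeChk, Bool.or_eq_true] at h
  rcases h.1 with h1 | h1
  · exact absurd (Nat.eq_of_beq_eq_true h1) h0
  · exact ⟨by simpa [Nat.blt] using h1.1, by simpa [Nat.blt] using h1.2⟩

theorem pathTo_stable : ∀ f c, c < D.n → D.depth c ≤ f → D.pathTo f c = D.pathTo (D.depth c) c := by
  intro f
  induction f using Nat.strong_induction_on with
  | _ f ih =>
    intro c hc hf
    rcases eq_or_ne c 0 with rfl | h0
    · cases f <;> simp [Tab.pathTo, hD.root]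
    · obtain ⟨hp, hlt⟩ := parFacts hD hc h0
      have hb : Nat.beq c 0 = false := by
        cases hb : Nat.beq c 0
        · rfl
        · exact absurd (Nat.eq_of_beq_eq_true hb) h0
      obtain ⟨f', rfl⟩ : ∃ f', f = f' + 1 := ⟨f - 1, by omega⟩
      obtain ⟨g, hg⟩ : ∃ g, D.depth c = g + 1 := ⟨D.depth c - 1, by omega⟩
      rw [hg, Tab.pathTo, Tab.pathTo, hb, cond_false, cond_false,
        ih f' (by omega) _ (cellFacts hD hc hp).1 (by omega)]
      rcases Nat.lt_or_ge g (f' + 1) with hgf | hgf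
      · rw [ih g hgf _ (cellFacts hD hc hp).1 (by omega)]
      · omega

theorem pathTo_range : ∀ f c, c < D.n → D.depth c ≤ f → ∀ y ∈ D.pathTo f c, y < D.K := by
  intro f
  induction f with
  | zero => intro c _ _ y hy; simp [Tab.pathTo] at hy
  | succ f ih =>
    intro c hc hf y hy
    rcases eq_or_ne c 0 with rfl | h0
    · simp [Tab.pathTo] at hy
    · obtain ⟨hp, hlt⟩ := parFacts hD hc h0
      have hb : Nat.beq c 0 = false := by
        cases hb : Nat.beq c 0
        · rfl
        · exact absurd (Nat.eq_of_beq_eq_true hb) h0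
      rw [Tab.pathTo, hb, cond_false, List.mem_append] at hy
      rcases hy with hy | hy
      · exact ih _ (cellFacts hD hc hp).1 (by omega) y hy
      · rw [List.mem_singleton] at hy
        exact hy ▸ (ivChk_spec _ hD.inverse _ hp).1

variable {G Q : Type*} [Group G] [MulAction G Q] (e : ℕ → G) (q₀ : Q) (hp : Paired D.K D.iv e)
  (hW : ∀ w ∈ W, prodE e w = 1) (hS : ∀ s ∈ seeds, actW e s.2.2 q₀ = q₀)
include hp hW hS

/-- The rows name cosets compatibly with the letters. -/
theorem rows_valid : ∃ q : ℕ → Q, q 0 = q₀ ∧ (∀ c < D.n, q c = actW e (D.pathTo (D.depth c) c) q₀) ∧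
    ∀ c < D.n, ∀ x < D.K, (e x)⁻¹ • q c = q (D.tgt c x) := by
  let q : ℕ → Q := fun c => actW e (D.pathTo (D.depth c) c) q₀
  refine ⟨q, ?_, fun c _ => rfl, ?_⟩
  · show actW e (D.pathTo (D.depth 0) 0) q₀ = q₀
    rw [hD.root]; rfl
  have hback : ∀ c < D.n, ∀ x < D.K, (e x)⁻¹ • q c = q (D.tgt c x) →
      (e (ivL D.iv x))⁻¹ • q (D.tgt c x) = q c := by
    intro c _ x hx h
    rw [← h, hp.inv x hx, inv_inv, smul_inv_smul]
  suffices key : ∀ r, ∀ c < D.n, ∀ x < D.K, D.rank c x = r → (e x)⁻¹ • q c = q (D.tgt c x) from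
    fun c hc x hx => key _ c hc x hx rfl
  intro r
  induction r using Nat.strong_induction_on with
  | _ r ih =>
    have prim : ∀ c < D.n, ∀ x < D.K, D.rank c x = r → D.code c x ≠ 1 → (e x)⁻¹ • q c = q (D.tgt c x) := by
      intro c hc x hx hr hne
      obtain ⟨hlt, hinv, hj⟩ := cellFacts hD hc hx
      unfold Tab.cellJust at hj
      split at hj
      · simp only [Bool.and_eq_true] at hj
        have hpx := Nat.eq_of_beq_eq_true hj.1
        have hd : D.depth (D.tgt c x) < D.depth c := by simpa [Nat.blt] using hj.2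
        obtain ⟨g, hg⟩ : ∃ g, D.depth c = g + 1 := ⟨D.depth c - 1, by omega⟩
        have h0 : c ≠ 0 := fun h => by rw [h, hD.root] at hg; omega
        have hb : Nat.beq c 0 = false := by
          cases hb : Nat.beq c 0
          · rfl
          · exact absurd (Nat.eq_of_beq_eq_true hb) h0
        show (e x)⁻¹ • actW e (D.pathTo (D.depth c) c) q₀ = _
        rw [hg, Tab.pathTo, hb, cond_false, hpx, actW_append, pathTo_stable hD g _ hlt (by omega)]
        simp [actW, hp.inv x hx, q]
      · next h1 => exact absurd h1 hne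
      · obtain ⟨s, hs, rfl, rfl⟩ := seedMem_spec hj
        have hw := hS s hs
        rw [(seedsChk_spec hD.seedWords s hs).2, Tab.seedWord, actW_append] at hw
        simp only [actW] at hw
        rw [actW_eq, prodE_invW hp _ (pathTo_range hD _ _ hlt le_rfl), inv_inv, smul_eq_iff_eq_inv_smul] at hw
        show _ = actW e (D.pathTo (D.depth (D.tgt s.1 s.2.1)) (D.tgt s.1 s.2.1)) q₀
        rw [actW_eq]
        exact hw
      · next k hk =>
        simp only [Bool.and_eq_true] at hj
        obtain ⟨⟨⟨hk', hlen⟩, hfirst⟩, hcyc⟩ := hj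
        have hk'' : k < D.nR := by simpa [Nat.blt] using hk'
        have hmem := rotsChk_spec _ hD.rots k hk''
        have htriv : prodE e (unpackW (Nat.land (D.R.read k) 255) (Nat.shiftRight (D.R.read k) 8)) = 1 :=
          prodE_allRots hp hD.words hW _ hmem
        obtain ⟨m, hm⟩ : ∃ m, Nat.land (D.R.read k) 255 = m + 1 :=
          ⟨Nat.land (D.R.read k) 255 - 1, by have h := (Nat.ble_eq.mp hlen : 1 ≤ Nat.land (D.R.read k) 255); omega⟩
        rw [hm] at htriv hcyc
        have hbody : Nat.shiftRight (Nat.shiftRight (D.R.read k) 8) 4 = Nat.shiftRight (D.R.read k) 12 := by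
          simp only [Nat.shiftRight_eq, ← Nat.shiftRight_add]
        rw [unpackW, Nat.eq_of_beq_eq_true hfirst, hbody] at htriv
        have hfix := actW_triv e htriv (q c)
        simp only [actW] at hfix
        have hrest : ∀ (l b cur : ℕ), cur < D.n → D.cycle (D.rank c x) c l b cur = true →
            actW e (unpackW l b) (q cur) = q c := by
          intro l
          induction l with
          | zero =>
            intro b cur _ h
            simp only [Tab.cycle] at h
            rw [Nat.eq_of_beq_eq_true h]; rfl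
          | succ l ihl =>
            intro b cur hcur h
            simp only [Tab.cycle, Bool.and_eq_true] at h
            obtain ⟨⟨hy, hr'⟩, hrec⟩ := h
            have hy' : Nat.land b 15 < D.K := by simpa [Nat.blt] using hy
            have hr'' : D.rank cur (Nat.land b 15) < D.rank c x := by simpa [Nat.blt] using hr'
            simp only [unpackW, actW]
            rw [ih _ (by omega) cur hcur _ hy' rfl]
            exact ihl _ _ (cellFacts hD hcur hy').1 hrec
        have := hrest _ _ _ hlt (by simpa using hcyc)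
        exact actW_injective e _ (hfix.trans this.symm)
    intro c hc x hx hr
    by_cases hcode : D.code c x = 1
    · obtain ⟨hlt, hinv, hj⟩ := cellFacts hD hc hx
      unfold Tab.cellJust at hj
      rw [hcode] at hj
      simp only [Bool.and_eq_true, Bool.not_eq_true'] at hj
      have hix := ivChk_spec _ hD.inverse x hx
      have h := prim _ hlt _ hix.1 ((Nat.eq_of_beq_eq_true hj.1).trans hr) (fun h => by rw [h] at hj; simp at hj)
      rw [hinv] at h
      have h2 := hback _ hlt _ hix.1 (by rw [hinv]; exact h)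
      rwa [hix.2, hinv] at h2
    · exact prim c hc x hx hr hcode

/-- There are no more cosets than rows. -/
theorem rows_cover (hgen : Subgroup.closure (e '' {x | x < D.K}) = ⊤) (htr : ∀ p : Q, ∃ a : G, a • q₀ = p) :
    ∃ ρ : Fin D.n → Q, Function.Surjective ρ ∧
      ∀ c : Fin D.n, ρ c = actW e (D.pathTo (D.depth c) c) q₀ := by
  obtain ⟨q, hq0, hqdef, hq⟩ := rows_valid hD e q₀ hp hW hS
  refine ⟨fun c => q c, fun p => ?_, fun c => hqdef c c.2⟩
  have hall : ∀ a : G, (∀ c < D.n, ∃ d < D.n, a • q c = q d) ∧ (∀ c < D.n, ∃ d < D.n, a⁻¹ • q c = q d) := by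
    intro a
    have ha : a ∈ Subgroup.closure (e '' {x | x < D.K}) := by rw [hgen]; exact Subgroup.mem_top a
    induction ha using Subgroup.closure_induction with
    | mem y hy =>
      obtain ⟨x, hx, rfl⟩ := hy
      refine ⟨fun c hc => ?_, fun c hc => ⟨_, (cellFacts hD hc hx).1, hq c hc x hx⟩⟩
      have hix := ivChk_spec _ hD.inverse x hx
      refine ⟨_, (cellFacts hD hc hix.1).1, ?_⟩
      rw [← hq c hc _ hix.1, hp.inv x hx, inv_inv]
    | one => exact ⟨fun c hc => ⟨c, hc, one_smul _ _⟩, fun c hc => ⟨c, hc, by rw [inv_one, one_smul]⟩⟩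
    | mul a b _ _ iha ihb =>
      refine ⟨fun c hc => ?_, fun c hc => ?_⟩
      · obtain ⟨d, hd, e1⟩ := ihb.1 c hc
        obtain ⟨d', hd', e2⟩ := iha.1 d hd
        exact ⟨d', hd', by rw [mul_smul, e1, e2]⟩
      · obtain ⟨d, hd, e1⟩ := iha.2 c hc
        obtain ⟨d', hd', e2⟩ := ihb.2 d hd
        exact ⟨d', hd', by rw [_root_.mul_inv_rev, mul_smul, e1, e2]⟩
    | inv a _ ih => exact ⟨ih.2, by rw [inv_inv]; exact ih.1⟩
  obtain ⟨a, rfl⟩ := htr p
  obtain ⟨d, hd, e1⟩ := (hall a).1 0 hD.pos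
  exact ⟨⟨d, hd⟩, by rw [← hq0]; exact e1.symm⟩

end Sound

end Cfsg.Agent.InvCoset
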