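import Mathlib

/-!
# Words in letters that are paired with their inverses

A letter below `K` has an inverse letter `ivL iv x`.  Cosets are acted on from the right, so as a left action a
letter `x` moves a coset by `(e x)⁻¹`.  Everything the kernel evaluates is `Nat` and `Bool`.
-/

set_option autoImplicit false
set_option linter.all false

noncomputable section

namespace Cfsg.Agent.InvCoset

/-- A binary tree of numbers. -/
inductive NTree where
  | leaf : ℕ → NTree
  | node : ℕ → NTree → NTree → NTree

/-- Lookup. -/
def NTree.read (t : NTree) : ℕ → ℕ :=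
  NTree.rec (motive := fun _ => ℕ → ℕ) (fun v _ => v)
    (fun k _ _ a b i => Bool.rec (motive := fun _ => ℕ) (a i) (b (Nat.sub i k)) (Nat.ble k i)) t

/-- The inverse letter, packed four bits to a letter. -/
def ivL (iv x : ℕ) : ℕ := Nat.land (Nat.shiftRight iv (Nat.mul 4 x)) 15

def lnth (l : List (List ℕ)) : ℕ → List ℕ :=
  List.rec (motive := fun _ => ℕ → List ℕ) (fun _ => [])
    (fun w _ ih n => Bool.rec (motive := fun _ => List ℕ) (ih (Nat.sub n 1)) w (Nat.beq n 0)) l

def lbeq (l : List ℕ) : List ℕ → Bool :=
  List.rec (motive := fun _ => List ℕ → Bool) (fun m => List.rec (motive := fun _ => Bool) true (fun _ _ _ => false) m)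
    (fun a _ ih m => List.rec (motive := fun _ => Bool) false (fun b m' _ => (Nat.beq a b).and (ih m')) m) l

theorem lbeq_iff : ∀ {l m : List ℕ}, lbeq l m = true → l = m
  | [], [], _ => rfl
  | [], b :: m, h => by simp [lbeq] at h
  | a :: l, [], h => by simp [lbeq] at h
  | a :: l, b :: m, h => by
    change ((Nat.beq a b).and (lbeq l m)) = true at h
    simp only [Bool.and_eq_true] at h
    rw [Nat.eq_of_beq_eq_true h.1, lbeq_iff h.2]

theorem lnth_mem : ∀ {l : List (List ℕ)} {n : ℕ}, lnth l n ∈ l ∨ lnth l n = []
  | [], n => Or.inr rfl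
  | w :: l, 0 => Or.inl List.mem_cons_self
  | w :: l, n + 1 => (lnth_mem (l := l) (n := n)).imp (List.mem_cons_of_mem _) id

def lmem (w : List ℕ) : List (List ℕ) → Bool
  | [] => false
  | v :: l => lbeq v w || lmem w l

theorem lmem_spec {w : List ℕ} : ∀ {l : List (List ℕ)}, lmem w l = true → w ∈ l
  | [], h => by simp [lmem] at h
  | v :: l, h => by
    simp only [lmem, Bool.or_eq_true] at h
    rcases h with h | h
    · exact lbeq_iff h ▸ List.mem_cons_self
    · exact List.mem_cons_of_mem _ (lmem_spec h)

def subOf : List (List ℕ) → List (List ℕ) → Bool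
  | [], _ => true
  | w :: l, L => lmem w L && subOf l L

theorem subOf_spec : ∀ {l L : List (List ℕ)}, subOf l L = true → ∀ w ∈ l, w ∈ L
  | [], _, _, w, hw => by simp at hw
  | v :: l, L, h, w, hw => by
    simp only [subOf, Bool.and_eq_true] at h
    rcases List.mem_cons.mp hw with rfl | hw
    · exact lmem_spec h.1
    · exact subOf_spec h.2 w hw

/-- All letters are below `K`. -/
def inRange (K : ℕ) : List ℕ → Bool
  | [] => true
  | y :: w => Nat.blt y K && inRange K w

theorem inRange_spec {K : ℕ} : ∀ {w : List ℕ}, inRange K w = true → ∀ y ∈ w, y < K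
  | [], _, y, hy => by simp at hy
  | z :: w, h, y, hy => by
    simp only [inRange, Bool.and_eq_true] at h
    rcases List.mem_cons.mp hy with rfl | hy
    · simpa [Nat.blt] using h.1
    · exact inRange_spec h.2 y hy

/-- The inverse word. -/
def invW (iv : ℕ) (w : List ℕ) : List ℕ := (w.map (ivL iv)).reverse

def rotsFrom (w : List ℕ) : ℕ → List (List ℕ)
  | 0 => []
  | n + 1 => (w.drop n ++ w.take n) :: rotsFrom w n

/-- The rotations of the words and of their inverses. -/
def allRots (iv : ℕ) : List (List ℕ) → List (List ℕ)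
  | [] => []
  | w :: l => rotsFrom w (w.length + 1) ++ (rotsFrom (invW iv w) (w.length + 1) ++ allRots iv l)

/-- The axioms on the letters: inverse letters evaluate to inverses. -/
structure Paired {G : Type*} [Group G] (K iv : ℕ) (e : ℕ → G) : Prop where
  lt : ∀ x < K, ivL iv x < K
  inv : ∀ x < K, e (ivL iv x) = (e x)⁻¹

section

variable {G : Type*} [Group G] (e : ℕ → G)

/-- The value of a word. -/
def prodE : List ℕ → G
  | [] => 1
  | y :: w => e y * prodE w

theorem prodE_append : ∀ u v : List ℕ, prodE e (u ++ v) = prodE e u * prodE e v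
  | [], v => (one_mul _).symm
  | y :: u, v => by rw [List.cons_append, prodE, prodE, prodE_append u v, mul_assoc]

theorem map_prodE {A : Type*} [Group A] (φ : G →* A) :
    ∀ w : List ℕ, φ (prodE e w) = prodE (fun x => φ (e x)) w
  | [] => map_one φ
  | y :: w => by rw [prodE, prodE, map_mul, map_prodE φ w]

variable {e}

theorem prodE_invW {K iv : ℕ} (hp : Paired K iv e) :
    ∀ w : List ℕ, (∀ y ∈ w, y < K) → prodE e (invW iv w) = (prodE e w)⁻¹
  | [], _ => inv_one.symm
  | y :: w, h => by
    have : invW iv (y :: w) = invW iv w ++ [ivL iv y] := by simp [invW]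
    rw [this, prodE_append, prodE_invW hp w fun z hz => h z (List.mem_cons_of_mem _ hz)]
    simp only [prodE, mul_one, _root_.mul_inv_rev, hp.inv y (h y List.mem_cons_self)]

theorem prodE_rot {w : List ℕ} (h : prodE e w = 1) :
    ∀ n, ∀ r ∈ rotsFrom w n, prodE e r = 1
  | 0, r, hr => by simp [rotsFrom] at hr
  | n + 1, r, hr => by
    rcases List.mem_cons.mp hr with rfl | hr
    · rw [prodE_append]
      have h' : prodE e (w.take n) * prodE e (w.drop n) = 1 := by rw [← prodE_append, List.take_append_drop, h]
      exact mul_eq_one_comm.mp h'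
    · exact prodE_rot h n r hr

theorem prodE_allRots {K iv : ℕ} (hp : Paired K iv e) : ∀ {l : List (List ℕ)},
    (∀ w ∈ l, ∀ y ∈ w, y < K) → (∀ w ∈ l, prodE e w = 1) → ∀ r ∈ allRots iv l, prodE e r = 1
  | [], _, _, r, hr => by simp [allRots] at hr
  | w :: l, hK, h1, r, hr => by
    simp only [allRots, List.mem_append] at hr
    rcases hr with hr | hr | hr
    · exact prodE_rot (h1 w List.mem_cons_self) _ r hr
    · refine prodE_rot ?_ _ r hr
      rw [prodE_invW hp w (hK w List.mem_cons_self), h1 w List.mem_cons_self, inv_one]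
    · exact prodE_allRots hp (fun v hv => hK v (List.mem_cons_of_mem _ hv))
        (fun v hv => h1 v (List.mem_cons_of_mem _ hv)) r hr

variable (e) {Q : Type*} [MulAction G Q]

/-- The left action of a word read from the left. -/
def actW : List ℕ → Q → Q
  | [], q => q
  | y :: w, q => actW w ((e y)⁻¹ • q)

theorem actW_eq : ∀ (w : List ℕ) (q : Q), actW e w q = (prodE e w)⁻¹ • q
  | [], q => by rw [actW, prodE, inv_one, one_smul]
  | y :: w, q => by rw [actW, prodE, actW_eq w, _root_.mul_inv_rev, mul_smul]

theorem actW_append : ∀ (u v : List ℕ) (q : Q), actW e (u ++ v) q = actW e v (actW e u q)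
  | [], _, _ => rfl
  | _ :: u, v, q => actW_append u v _

theorem actW_injective (w : List ℕ) : Function.Injective (actW e (Q := Q) w) := fun a b h => by
  rw [actW_eq, actW_eq] at h
  exact MulAction.injective _ h

theorem actW_triv {w : List ℕ} (h : prodE e w = 1) (q : Q) : actW e w q = q := by
  rw [actW_eq, h, inv_one, one_smul]

end

end Cfsg.Agent.InvCoset
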